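import Mathlib

/-!
# Hochschild's formula `(f D)^p = f^p D^p + c D`
-/

open Finset

universe u v

namespace PCurvLib

variable {B : Type u} [CommRing B]

/-- Coefficients of `(f D)^n` in the powers of `D`. -/
def C (θ : B → B) (f : B) : ℕ → ℕ → B
  | 0, 0 => 1
  | 0, _ + 1 => 0
  | n + 1, 0 => f * θ (C θ f n 0)
  | n + 1, j + 1 => f * (θ (C θ f n (j + 1)) + C θ f n j)

variable {θ : B → B} {f : B}

theorem C_eq_zero_of_lt (h0 : θ 0 = 0) : ∀ n j, n < j → C θ f n j = 0
  | 0, 0, h => by omega
  | 0, j + 1, _ => rfl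
  | n + 1, 0, h => by omega
  | n + 1, j + 1, h => by
    rw [C, C_eq_zero_of_lt h0 n (j + 1) (by omega), C_eq_zero_of_lt h0 n j (by omega), h0]
    ring

theorem C_self (h0 : θ 0 = 0) : ∀ n, C θ f n n = f ^ n
  | 0 => by simp [C]
  | n + 1 => by rw [C, C_eq_zero_of_lt h0 n (n + 1) (by omega), C_self h0 n, h0]; ring

theorem C_zero_right (h0 : θ 0 = 0) (h1 : θ 1 = 0) : ∀ n, C θ f (n + 1) 0 = 0
  | 0 => by simp [C, h1]
  | n + 1 => by rw [C, C_zero_right h0 h1 n, h0, mul_zero]

theorem C_map {B' : Type*} [CommRing B'] (Φ : B →+* B') (θ' : B' → B')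
    (hΦ : ∀ b, Φ (θ b) = θ' (Φ b)) : ∀ n j, Φ (C θ f n j) = C θ' (Φ f) n j
  | 0, 0 => map_one Φ
  | 0, j + 1 => map_zero Φ
  | n + 1, 0 => by rw [C, C, map_mul, hΦ, C_map Φ θ' hΦ n 0]
  | n + 1, j + 1 => by
    rw [C, C, map_mul, map_add, hΦ, C_map Φ θ' hΦ n (j + 1), C_map Φ θ' hΦ n j]

theorem iterate_smul_apply {M : Type v} [AddCommGroup M] [Module B M] (D : M →+ M)
    (hD : ∀ (b : B) m, D (b • m) = θ b • m + b • D m) (h0 : θ 0 = 0) (n : ℕ) (m : M) :
    (fun m => f • D m)^[n] m = ∑ j ∈ range (n + 1), C θ f n j • (⇑D)^[j] m := by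
  induction n with
  | zero => simp [C]
  | succ n ih =>
    rw [Function.iterate_succ_apply', ih, map_sum, sum_range_succ' _ (n + 1)]
    simp only [hD, C, ← Function.iterate_succ_apply' D, sum_add_distrib, smul_add, mul_add, add_smul,
      smul_sum, mul_smul]
    have h : ∑ j ∈ range (n + 1), f • θ (C θ f n j) • (⇑D)^[j] m =
        ∑ j ∈ range (n + 1), f • θ (C θ f n (j + 1)) • (⇑D)^[j + 1] m +
          f • θ (C θ f n 0) • (⇑D)^[0] m := by
      rw [← sum_range_succ' (fun j => f • θ (C θ f n j) • (⇑D)^[j] m) (n + 1),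
        sum_range_succ (fun j => f • θ (C θ f n j) • (⇑D)^[j] m) (n + 1),
        C_eq_zero_of_lt h0 n (n + 1) (by omega), h0, zero_smul, smul_zero, add_zero]
    rw [h]
    abel

theorem iterate_mul {θ : B → B} (hadd : ∀ a b, θ (a + b) = θ a + θ b)
    (hmul : ∀ a b, θ (a * b) = θ a * b + a * θ b) (n : ℕ) (x y : B) :
    θ^[n] (x * y) = ∑ ij ∈ antidiagonal n, (n.choose ij.1 : B) * (θ^[ij.1] x * θ^[ij.2] y) := by
  induction n with
  | zero => simp
  | succ n ih =>
    have hnat : ∀ k : ℕ, θ (k : B) = 0 := fun k => by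
      have h0 : θ 0 = 0 := by simpa using hadd 0 0
      have h1 : θ 1 = 0 := by simpa using hmul 1 1
      induction k with
      | zero => simpa using h0
      | succ k ihk => rw [Nat.cast_succ, hadd, ihk, h1, add_zero]
    let Θ : B →+ B := AddMonoidHom.mk' θ hadd
    rw [Function.iterate_succ_apply', ih, show θ (∑ ij ∈ antidiagonal n, _) = _ from map_sum Θ _ _,
      sum_antidiagonal_choose_succ_mul (fun i j => θ^[i] x * θ^[j] y) n, ← sum_add_distrib]
    refine sum_congr rfl fun ij hij => ?_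
    have hs : n.choose ij.1 = n.choose ij.2 := by
      rw [HasAntidiagonal.mem_antidiagonal] at hij
      exact Nat.choose_symm_of_eq_add hij.symm
    show θ (_ * (_ * _)) = _
    rw [hmul, hnat, zero_mul, zero_add, hmul, Function.iterate_succ_apply',
      Function.iterate_succ_apply', hs]
    ring

theorem iterate_prime_mul {θ : B → B} (p : ℕ) [Fact p.Prime] [CharP B p]
    (hadd : ∀ a b, θ (a + b) = θ a + θ b) (hmul : ∀ a b, θ (a * b) = θ a * b + a * θ b) (x y : B) :
    θ^[p] (x * y) = θ^[p] x * y + x * θ^[p] y := by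
  have hp : p.Prime := Fact.out
  rw [iterate_mul hadd hmul, sum_eq_add (p, 0) (0, p)
    (fun h => hp.ne_zero (Prod.mk.inj h).1) (fun ij hij h => ?_) (by simp) (by simp)]
  · simp
  · obtain ⟨i, j⟩ := ij
    rw [HasAntidiagonal.mem_antidiagonal] at hij
    obtain rfl : j = p - i := by omega
    have hi0 : i ≠ 0 := fun h0 => h.2 (by subst h0; simp)
    have hip : i ≠ p := fun hp' => h.1 (by subst hp'; simp)
    rw [(CharP.cast_eq_zero_iff B p _).2 (hp.dvd_choose_self hi0 (by omega))]
    exact zero_mul _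

section model

variable (p : ℕ) [Fact p.Prime]

open MvPolynomial

/-- The universal differential ring on one element. -/
noncomputable def shiftDer : Derivation (ZMod p) (MvPolynomial ℕ (ZMod p)) (MvPolynomial ℕ (ZMod p)) :=
  mkDerivation (ZMod p) fun i => X (i + 1)

theorem iterate_shiftDer_X (i N : ℕ) : (shiftDer p)^[i] (X N) = X (N + i) := by
  induction i with
  | zero => simp
  | succ i ih => rw [Function.iterate_succ_apply', ih, shiftDer, mkDerivation_X, add_assoc]

theorem C_model_eq_zero (j : ℕ) (hj : 2 ≤ j) (hjp : j < p) :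
    C (shiftDer p) (X 0 : MvPolynomial ℕ (ZMod p)) p j = 0 := by
  classical
  have hp : p.Prime := Fact.out
  set θ := shiftDer p
  set c := fun i => C θ (X 0 : MvPolynomial ℕ (ZMod p)) p i with hc
  have h0 : θ 0 = 0 := map_zero θ
  let O : MvPolynomial ℕ (ZMod p) → MvPolynomial ℕ (ZMod p) := fun x =>
    ∑ i ∈ range p, c i * θ^[i] x
  have hO : ∀ x, (fun m => (X 0 : MvPolynomial ℕ (ZMod p)) * θ m)^[p] x = O x + (X 0) ^ p * θ^[p] x :=
    fun x => by
      have := iterate_smul_apply (B := MvPolynomial ℕ (ZMod p)) (f := X 0) (θ := θ)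
        (AddMonoidHom.mk' θ (map_add θ)) (fun b m => by
          show θ (b * m) = θ b * m + b * θ m
          rw [θ.leibniz, smul_eq_mul, smul_eq_mul]; ring) h0 p x
      rw [sum_range_succ, C_self h0] at this
      exact this
  have hfadd : ∀ a b : MvPolynomial ℕ (ZMod p), X 0 * θ (a + b) = X 0 * θ a + X 0 * θ b := fun a b => by
    rw [map_add, mul_add]
  have hfmul : ∀ a b : MvPolynomial ℕ (ZMod p),
      X 0 * θ (a * b) = X 0 * θ a * b + a * (X 0 * θ b) := fun a b => by
    rw [θ.leibniz, smul_eq_mul, smul_eq_mul]; ring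
  have hθmul : ∀ a b : MvPolynomial ℕ (ZMod p), θ (a * b) = θ a * b + a * θ b := fun a b => by
    rw [θ.leibniz, smul_eq_mul, smul_eq_mul]; ring
  have hOmul : ∀ a b, O (a * b) = O a * b + a * O b := fun a b => by
    have h := iterate_prime_mul (θ := fun m => (X 0 : MvPolynomial ℕ (ZMod p)) * θ m) p hfadd hfmul a b
    rw [hO, hO, hO, iterate_prime_mul p (map_add θ) hθmul] at h
    linear_combination h
  -- variables beyond the supports of the coefficients
  obtain ⟨N, hN⟩ : ∃ N, ∀ i ∈ range p, ∀ v ∈ (c i).vars, v < N :=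
    ⟨((range p).biUnion fun i => (c i).vars).sup id + 1, fun i hi v hv =>
      Nat.lt_succ_of_le (le_sup (f := id) (mem_biUnion.2 ⟨i, hi, hv⟩))⟩
  have hder : ∀ i ∈ range p, ∀ v, N ≤ v → pderiv v (c i) = 0 := fun i hi v hv =>
    pderiv_eq_zero_of_notMem_vars fun h => absurd (hN i hi v h) (by omega)
  have hder' : ∀ v, N ≤ v → ∀ g : ℕ → MvPolynomial ℕ (ZMod p),
      pderiv v (∑ i ∈ range p, c i * g i) = ∑ i ∈ range p, c i * pderiv v (g i) := fun v hv g => by
    rw [map_sum]
    exact sum_congr rfl fun i hi => by rw [pderiv_mul, hder i hi v hv, zero_mul, zero_add]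
  set M := N + p + 1
  have hX : ∀ v w, pderiv v (X w : MvPolynomial ℕ (ZMod p)) = if w = v then 1 else 0 := fun v w => by
    simp [pderiv_X, Pi.single_apply]
  have hitX : ∀ i K, (⇑θ)^[i] (X K) = X (K + i) := iterate_shiftDer_X p
  have key := congrArg (pderiv (N + 1)) (hOmul (X N) (X M))
  simp only [O, iterate_mul (map_add θ) hθmul, hitX] at key
  rw [hder' _ (by omega), map_add, pderiv_mul, pderiv_mul, hder' _ (by omega), hder' _ (by omega),
    hX, hX, if_neg (by omega), if_neg (by omega), mul_zero, add_zero, zero_mul, zero_add] at key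
  have eL : ∀ i ∈ range p, pderiv (N + 1) (∑ ij ∈ antidiagonal i,
      (i.choose ij.1 : MvPolynomial ℕ (ZMod p)) * (X (N + ij.1) * X (M + ij.2))) =
      if i = 0 then 0 else (i : MvPolynomial ℕ (ZMod p)) * X (M + (i - 1)) := by
    intro i hi
    rw [map_sum]
    split_ifs with h
    · subst h
      simp [pderiv_mul, hX, show M ≠ N + 1 by omega]
    · rw [sum_eq_single (1, i - 1)]
      · rw [pderiv_mul, pderiv_mul, hX, hX, if_pos rfl, if_neg (by omega)]
        simp [Nat.choose_one_right]
      · rintro ⟨a, b⟩ hab hne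
        rw [HasAntidiagonal.mem_antidiagonal] at hab
        have ha : a ≠ 1 := fun ha => hne (by ext <;> simp <;> omega)
        simp [pderiv_mul, hX, ha, show M + b ≠ N + 1 by omega]
      · intro h'
        exact absurd (HasAntidiagonal.mem_antidiagonal.2 (by omega)) h'
  rw [sum_congr rfl fun i hi => by rw [eL i hi]] at key
  have hM : ∑ i ∈ range p, c i * pderiv (N + 1) (X (M + i) : MvPolynomial ℕ (ZMod p)) = 0 :=
    sum_eq_zero fun i hi => by rw [hX, if_neg (by omega), mul_zero]
  rw [hM, mul_zero, add_zero] at key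
  have key2 := congrArg (pderiv (M + (j - 1))) key
  rw [hder' _ (by omega), pderiv_mul, hX, if_neg (by omega), mul_zero, add_zero,
    hder' _ (by omega)] at key2
  rw [sum_eq_single j (fun i hi hne => ?_) (fun h => absurd (mem_range.2 hjp) h)] at key2
  · rw [if_neg (by omega), pderiv_mul, hX, if_pos rfl, Derivation.map_natCast, zero_mul, zero_add,
      mul_one, sum_eq_zero (fun i hi => ?_), zero_mul] at key2
    · have hu : IsUnit ((j : MvPolynomial ℕ (ZMod p))) := by
        rw [← map_natCast (MvPolynomial.C (σ := ℕ) (R := ZMod p))]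
        refine (isUnit_iff_ne_zero.2 fun h => ?_).map _
        rw [CharP.cast_eq_zero_iff (ZMod p) p] at h
        exact absurd (Nat.le_of_dvd (by omega) h) (by omega)
      exact (hu.mul_left_eq_zero).1 key2
    · rw [hX]
      split_ifs <;> simp
  · by_cases h : i = 0
    · simp [h]
    · rw [if_neg h, pderiv_mul, hX, if_neg (by omega), Derivation.map_natCast]
      simp

end model

theorem hochschild {R : Type*} [CommRing R] [Algebra R B] (θ : Derivation R B B) (f : B) (p : ℕ)
    [Fact p.Prime] [CharP B p] {M : Type v} [AddCommGroup M] [Module B M] (D : M →+ M)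
    (hD : ∀ (b : B) m, D (b • m) = θ b • m + b • D m) (m : M) :
    (fun m => f • D m)^[p] m = f ^ p • (⇑D)^[p] m + C θ f p 1 • D m := by
  have hp : p.Prime := Fact.out
  have h0 : θ 0 = 0 := map_zero θ
  letI := ZMod.algebra B p
  let Φ : MvPolynomial ℕ (ZMod p) →ₐ[ZMod p] B := MvPolynomial.aeval fun i => (⇑θ)^[i] f
  have hΦ : ∀ x, Φ (shiftDer p x) = θ (Φ x) := fun x => by
    induction x using MvPolynomial.induction_on with
    | C a =>
      rw [← MvPolynomial.algebraMap_eq, Derivation.map_algebraMap, map_zero, AlgHom.commutes]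
      obtain ⟨k, rfl⟩ := ZMod.natCast_zmod_surjective a
      rw [map_natCast, Derivation.map_natCast]
    | add x y hx hy => simp only [map_add, hx, hy]
    | mul_X x i hx =>
      have hXi : Φ (shiftDer p (MvPolynomial.X i)) = θ (Φ (MvPolynomial.X i)) := by
        simp [shiftDer, Φ, Function.iterate_succ_apply']
      simp only [Derivation.leibniz, smul_eq_mul, map_add, map_mul, hx, hXi]
  have hC : ∀ j, 2 ≤ j → j < p → C θ f p j = 0 := fun j h2 hjp => by
    have := C_map (θ := shiftDer p) (f := MvPolynomial.X 0) Φ.toRingHom θ hΦ p j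
    rw [C_model_eq_zero p j h2 hjp, map_zero] at this
    simpa [Φ] using this.symm
  rw [iterate_smul_apply D hD h0, sum_range_succ, C_self h0, add_comm]
  congr 1
  rw [sum_eq_single 1]
  · simp
  · intro i hi hi1
    rw [mem_range] at hi
    obtain rfl | h2 : i = 0 ∨ 2 ≤ i := by omega
    · obtain ⟨q, hq⟩ : ∃ q, p = q + 1 := ⟨p - 1, by have := hp.pos; omega⟩
      have := C_zero_right (f := f) h0 θ.map_one_eq_zero q
      rw [← hq] at this
      rw [this, zero_smul]
    · rw [hC i h2 hi, zero_smul]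
  · intro h
    exact absurd (mem_range.2 hp.one_lt) h

end PCurvLib
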